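import Cfsg.Agent.Lib.ThRep.Code
import Cfsg.Agent.Lib.ThRep.Data
import Cfsg.Prelude.Def_Spor_Th

/-!
A representation of degree 248 over the integers modulo 3 of the presented Thompson group; the image of `u`
is not in the group generated by the images of `a, b, c, d, e, s, t`.
-/

set_option autoImplicit false
set_option maxRecDepth 20000

namespace Cfsg.Agent.Lib.ThRep

open Cfsg Cfsg.Spor.Th
open Cfsg.Agent.Lib.Computation (getW forceNat forceNat_eq getW_eq)

/-- The codes of the letters and their inverses. -/
def dat : ℕ → ℕ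
  | 0 => Data.mA
  | 1 => Data.mB
  | 2 => Data.mC
  | 3 => Data.mD
  | 4 => Data.mE
  | 5 => Data.mS
  | 6 => Data.mT
  | 7 => Data.mU
  | 8 => Data.mSInv
  | 9 => Data.mTInv
  | _ => Data.mUInv

theorem dat_ok0 : okB (dat 0) = true := by decide +kernel
theorem dat_ok1 : okB (dat 1) = true := by decide +kernel
theorem dat_ok2 : okB (dat 2) = true := by decide +kernel
theorem dat_ok3 : okB (dat 3) = true := by decide +kernel
theorem dat_ok4 : okB (dat 4) = true := by decide +kernel
theorem dat_ok5 : okB (dat 5) = true := by decide +kernel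
theorem dat_ok6 : okB (dat 6) = true := by decide +kernel
theorem dat_ok7 : okB (dat 7) = true := by decide +kernel
theorem dat_ok8 : okB (dat 8) = true := by decide +kernel
theorem dat_ok9 : okB (dat 9) = true := by decide +kernel
theorem dat_ok10 : okB (dat 10) = true := by decide +kernel

theorem dat_ok : ∀ g, OK (dat g)
  | 0 => ok_of_okB dat_ok0
  | 1 => ok_of_okB dat_ok1
  | 2 => ok_of_okB dat_ok2
  | 3 => ok_of_okB dat_ok3
  | 4 => ok_of_okB dat_ok4
  | 5 => ok_of_okB dat_ok5
  | 6 => ok_of_okB dat_ok6
  | 7 => ok_of_okB dat_ok7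
  | 8 => ok_of_okB dat_ok8
  | 9 => ok_of_okB dat_ok9
  | _ + 10 => ok_of_okB dat_ok10

theorem pairs_ok : ([[0, 0], [1, 1], [2, 2], [3, 3], [4, 4], [5, 8], [8, 5], [6, 9], [9, 6], [7, 10],
    [10, 7]].all fun l => isOne dat l) = true := by decide +kernel

theorem val_pair {a b : ℕ} (h : [a, b] ∈ ([[0, 0], [1, 1], [2, 2], [3, 3], [4, 4], [5, 8], [8, 5],
    [6, 9], [9, 6], [7, 10], [10, 7]] : List (List ℕ))) : val (dat a) * val (dat b) = 1 := by
  have h' := prod_eq_one dat_ok (List.all_eq_true.1 pairs_ok _ h)
  rw [List.map_cons, List.map_cons, List.map_nil, List.prod_cons, List.prod_singleton] at h'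
  exact h'

/-- The column of a signed generator. -/
def col : Gen × Bool → ℕ
  | (.a, _) => 0
  | (.b, _) => 1
  | (.c, _) => 2
  | (.d, _) => 3
  | (.e, _) => 4
  | (.s, true) => 5
  | (.t, true) => 6
  | (.u, true) => 7
  | (.s, false) => 8
  | (.t, false) => 9
  | (.u, false) => 10

theorem pair_mem : ∀ (g : Gen) (s : Bool), [col (g, s), col (g, !s)] ∈ ([[0, 0], [1, 1], [2, 2], [3, 3],
    [4, 4], [5, 8], [8, 5], [6, 9], [9, 6], [7, 10], [10, 7]] : List (List ℕ)) := by
  intro g s
  cases g <;> cases s <;> decide

/-- The image of a generator. -/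
noncomputable def img (g : Gen) : GL (Fin 248) (ZMod 3) :=
  ⟨val (dat (col (g, true))), val (dat (col (g, false))), val_pair (pair_mem g true),
    val_pair (pair_mem g false)⟩

/-- The relators of a block evaluate to the identity. -/
noncomputable def block (lo n : ℕ) : Bool :=
  ((extra.drop lo).take n).all fun r => isOne dat ((FreeGroup.toWord r).map col)

theorem block0 : block 0 12 = true := by decide +kernel
theorem block12 : block 12 2 = true := by decide +kernel
theorem block14 : block 14 14 = true := by decide +kernel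
theorem block28 : block 28 6 = true := by decide +kernel
theorem block34 : block 34 4 = true := by decide +kernel
theorem block38 : block 38 8 = true := by decide +kernel

theorem extra_split : extra = (extra.drop 0).take 12 ++ ((extra.drop 12).take 2 ++ ((extra.drop 14).take 14
    ++ ((extra.drop 28).take 6 ++ ((extra.drop 34).take 4 ++ (extra.drop 38).take 8)))) := by
  rfl

theorem lift_rel {r : FreeGroup Gen} (hr : r ∈ extra) : FreeGroup.lift img r = 1 := by
  have h : isOne dat ((FreeGroup.toWord r).map col) = true := by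
    rw [extra_split] at hr
    simp only [List.mem_append] at hr
    rcases hr with h | h | h | h | h | h
    · exact List.all_eq_true.1 block0 r h
    · exact List.all_eq_true.1 block12 r h
    · exact List.all_eq_true.1 block14 r h
    · exact List.all_eq_true.1 block28 r h
    · exact List.all_eq_true.1 block34 r h
    · exact List.all_eq_true.1 block38 r h
  have h' := prod_eq_one dat_ok h
  rw [← FreeGroup.mk_toWord (x := r), FreeGroup.lift_mk]
  apply Units.ext
  rw [← Units.coeHom_apply, map_list_prod, List.map_map, Units.val_one]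
  refine Eq.trans ?_ h'
  rw [List.map_map]
  congr 1
  refine List.map_congr_left fun p _ => ?_
  obtain ⟨g, _ | _⟩ := p <;> cases g <;> rfl

/-- The representation. -/
noncomputable def rho : Cfsg.Spor.Th →* GL (Fin 248) (ZMod 3) :=
  PresentedGroup.toGroup (f := img) fun r hr => by
    rcases hr with ⟨x, hx, -⟩ | hr
    · simp [Spor.coxNodes, edges] at hx
    · exact lift_rel hr

theorem rho_of (g : Gen) : rho (PresentedGroup.of g) = img g := PresentedGroup.toGroup.of _

/-- The first 52 coordinates span an invariant subspace. -/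
noncomputable def blockB (N : ℕ) : Bool :=
  (List.range 52).all fun i => Nat.blt (getW 2480 N i) (Nat.shiftLeft 1 520)

theorem blocks_ok : ([0, 1, 2, 3, 4, 5, 6, 8, 9].all fun g => blockB (dat g)) = true := by
  decide +kernel

/-- Block shape of a matrix. -/
def Shape (m : Mat) : Prop := ∀ i j : Fin 248, i.1 < 52 → 52 ≤ j.1 → m i j = 0

theorem shape_of_blockB {N : ℕ} (h : blockB N = true) : Shape (val N) := by
  intro i j hi hj
  simp only [blockB, List.all_eq_true, List.mem_range, Nat.blt_eq] at h
  have h' := h i.1 hi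
  show ((entry N i.1 j.1 : ℕ) : ZMod 3) = 0
  rw [show Nat.shiftLeft 1 520 = 2 ^ 520 from Nat.one_shiftLeft 520] at h'
  rw [entry, getW_eq 10, Nat.div_eq_of_lt (lt_of_lt_of_le h' (Nat.pow_le_pow_right two_pos (by omega))),
    Nat.zero_mod, Nat.cast_zero]

theorem shape_mul {m n : Mat} (hm : Shape m) (hn : Shape n) : Shape (m * n) := by
  intro i j hi hj
  rw [Matrix.mul_apply]
  refine Finset.sum_eq_zero fun k _ => ?_
  by_cases hk : k.1 < 52
  · rw [hn k j hk hj, mul_zero]
  · rw [hm i k hi (by omega), zero_mul]

theorem not_mem : img .u ∉ Subgroup.closure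
    {img .a, img .b, img .c, img .d, img .e, img .s, img .t} := by
  intro h
  have key : ∀ g ∈ Subgroup.closure {img .a, img .b, img .c, img .d, img .e, img .s, img .t},
      Shape (g : Mat) ∧ Shape ((g⁻¹ : GL (Fin 248) (ZMod 3)) : Mat) := by
    intro g hg
    induction hg using Subgroup.closure_induction with
    | mem x hx =>
      have hb : ∀ n ∈ ([0, 1, 2, 3, 4, 5, 6, 8, 9] : List ℕ), Shape (val (dat n)) :=
        fun n hn => shape_of_blockB (List.all_eq_true.1 blocks_ok n hn)
      simp only [Set.mem_insert_iff, Set.mem_singleton_iff] at hx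
      rcases hx with rfl | rfl | rfl | rfl | rfl | rfl | rfl <;>
        exact ⟨hb _ (by decide), hb _ (by decide)⟩
    | one =>
      have h1 : Shape (1 : Mat) := fun i j hi hj =>
        Matrix.one_apply_ne fun e => by subst e; omega
      simpa using h1
    | mul x y _ _ hx hy =>
      rw [mul_inv_rev, Units.val_mul, Units.val_mul]
      exact ⟨shape_mul hx.1 hy.1, shape_mul hy.2 hx.2⟩
    | inv x _ hx => rw [inv_inv]; exact hx.symm
  obtain ⟨i, hi, j, hj, hne⟩ : ∃ i, i < 52 ∧ ∃ j, (52 ≤ j ∧ j < 248) ∧
      entry Data.mU i j % 3 ≠ 0 := ⟨0, by decide, 52, by decide, by decide +kernel⟩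
  have hz := (key _ h).1 ⟨i, by omega⟩ ⟨j, hj.2⟩ hi hj.1
  apply hne
  exact Nat.mod_eq_zero_of_dvd ((ZMod.natCast_eq_zero_iff _ 3).1 hz)

theorem rho_u_not_mem : rho (PresentedGroup.of Gen.u) ∉
    (Subgroup.closure ({PresentedGroup.of Gen.a, PresentedGroup.of Gen.b, PresentedGroup.of Gen.c,
      PresentedGroup.of Gen.d, PresentedGroup.of Gen.e, PresentedGroup.of Gen.s,
      PresentedGroup.of Gen.t} : Set Cfsg.Spor.Th)).map rho := by
  rw [MonoidHom.map_closure, rho_of]
  simp only [Set.image_insert_eq, Set.image_singleton, rho_of]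
  exact not_mem

end Cfsg.Agent.Lib.ThRep
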