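import Cfsg.Agent.Lib.Computation.PermCode
import Mathlib

/-!
A fast code for square matrices of size 248 over the integers modulo 3: ten bits for an entry, all rows in
one natural number; a product costs 248 big-number multiplications and a few masked shifts.
-/

set_option autoImplicit false
set_option maxRecDepth 20000
set_option exponentiation.threshold 3000

namespace Cfsg.Agent.Lib.ThRep

open Cfsg.Agent.Lib.Computation (getW packW forceNat forceNat_eq getW_packW packW_succ packW_lt getW_eq)

/-- The matrices. -/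
abbrev Mat : Type := Matrix (Fin 248) (Fin 248) (ZMod 3)

theorem packW_congr {w : ℕ} {f g : ℕ → ℕ} : ∀ {k : ℕ}, (∀ j < k, f j = g j) → packW w f k = packW w g k := by
  intro k
  induction k with
  | zero => intro _; rfl
  | succ k ih =>
    intro h
    rw [packW_succ, packW_succ, h k k.lt_succ_self, ih fun j hj => h j (hj.trans k.lt_succ_self)]

theorem packW_add (w : ℕ) (f g : ℕ → ℕ) : ∀ k, packW w (fun j => f j + g j) k = packW w f k + packW w g k := by
  intro k
  induction k with
  | zero => rfl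
  | succ k ih => simp only [packW_succ, ih]; ring

theorem packW_mul (w c : ℕ) (f : ℕ → ℕ) : ∀ k, packW w (fun j => f j * c) k = packW w f k * c := by
  intro k
  induction k with
  | zero => simp [packW]
  | succ k ih => simp only [packW_succ, ih]; ring

theorem packW_zero (w : ℕ) : ∀ k, packW w (fun _ => 0) k = 0 := by
  intro k
  induction k with
  | zero => rfl
  | succ k ih => rw [packW_succ, ih]; simp

theorem packW_succ_low (w : ℕ) (f : ℕ → ℕ) : ∀ k,
    packW w f (k + 1) = 2 ^ w * packW w (fun j => f (j + 1)) k + f 0 := by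
  intro k
  induction k with
  | zero => rw [packW_succ]; simp [packW]
  | succ k ih =>
    rw [packW_succ, ih, packW_succ w (fun j => f (j + 1)), Nat.mul_succ, pow_add]
    ring

theorem land_packW {w : ℕ} (f g : ℕ → ℕ) : ∀ k, (∀ j < k, f j < 2 ^ w) → (∀ j < k, g j < 2 ^ w) →
    Nat.land (packW w f k) (packW w g k) = packW w (fun j => Nat.land (f j) (g j)) k := by
  intro k
  induction k generalizing f g with
  | zero => intro _ _; exact Nat.zero_and _
  | succ k ih =>
    intro hf hg
    show packW w f (k + 1) &&& packW w g (k + 1) = _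
    have h' : packW w (fun j => f (j + 1)) k &&& packW w (fun j => g (j + 1)) k =
        packW w (fun j => Nat.land (f (j + 1)) (g (j + 1))) k :=
      ih _ _ (fun j hj => hf _ (by omega)) (fun j hj => hg _ (by omega))
    rw [packW_succ_low, packW_succ_low, packW_succ_low, ← h']
    apply Nat.eq_of_testBit_eq
    intro b
    have h0 : f 0 &&& g 0 < 2 ^ w := lt_of_le_of_lt Nat.and_le_left (hf 0 (by omega))
    rw [Nat.testBit_and, Nat.testBit_two_pow_mul_add _ (hf 0 (by omega)),
      Nat.testBit_two_pow_mul_add _ (hg 0 (by omega)),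
      Nat.testBit_two_pow_mul_add _ (show Nat.land (f 0) (g 0) < 2 ^ w from h0)]
    split
    · exact (Nat.testBit_and _ _ _).symm
    · exact (Nat.testBit_and _ _ _).symm

theorem shift_land_packW {w s : ℕ} (hs : s ≤ w) (f g : ℕ → ℕ) : ∀ k, (∀ j < k, f j < 2 ^ w) →
    (∀ j < k, g j < 2 ^ (w - s)) →
    Nat.land (Nat.shiftRight (packW w f k) s) (packW w g k) =
      packW w (fun j => Nat.land (Nat.shiftRight (f j) s) (g j)) k := by
  intro k
  induction k generalizing f g with
  | zero => intro _ _; exact Nat.and_zero _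
  | succ k ih =>
    intro hf hg
    have hgw : g 0 < 2 ^ w := lt_of_lt_of_le (hg 0 (by omega))
      (Nat.pow_le_pow_right two_pos (Nat.sub_le _ _))
    have h' : packW w (fun j => f (j + 1)) k >>> s &&& packW w (fun j => g (j + 1)) k =
        packW w (fun j => Nat.land (Nat.shiftRight (f (j + 1)) s) (g (j + 1))) k :=
      ih _ _ (fun j hj => hf _ (by omega)) (fun j hj => hg _ (by omega))
    show packW w f (k + 1) >>> s &&& packW w g (k + 1) = _
    rw [packW_succ_low, packW_succ_low, packW_succ_low, ← h']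
    apply Nat.eq_of_testBit_eq
    intro b
    have h0 : f 0 >>> s &&& g 0 < 2 ^ w := lt_of_le_of_lt Nat.and_le_right hgw
    rw [Nat.testBit_and, Nat.testBit_shiftRight, Nat.testBit_two_pow_mul_add _ (hf 0 (by omega)),
      Nat.testBit_two_pow_mul_add _ hgw,
      Nat.testBit_two_pow_mul_add _ (show Nat.land (Nat.shiftRight (f 0) s) (g 0) < 2 ^ w from h0)]
    by_cases hb : b < w
    · simp only [hb, if_true]
      show _ = (f 0 >>> s &&& g 0).testBit b
      rw [Nat.testBit_and, Nat.testBit_shiftRight]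
      by_cases hb2 : s + b < w
      · rw [if_pos hb2]
      · rw [if_neg hb2]
        have hz : (g 0).testBit b = false := Nat.testBit_lt_two_pow
          (lt_of_lt_of_le (hg 0 (by omega)) (Nat.pow_le_pow_right two_pos (by omega)))
        simp [hz]
    · have hb2 : ¬ s + b < w := by omega
      simp only [hb, hb2, if_false]
      show _ = (_ >>> s &&& _).testBit (b - w)
      rw [Nat.testBit_and, Nat.testBit_shiftRight, show s + (b - w) = s + b - w by omega]

/-- The code of a table of entries. -/
def pack2 (f : ℕ → ℕ → ℕ) : ℕ := packW 2480 (fun i => packW 10 (f i) 248) 248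

theorem pack2_congr {f g : ℕ → ℕ → ℕ} (h : ∀ i < 248, ∀ j < 248, f i j = g i j) : pack2 f = pack2 g :=
  packW_congr fun i hi => packW_congr fun j hj => h i hi j hj

theorem row_lt {f : ℕ → ℕ} (h : ∀ j < 248, f j < 2 ^ 10) : packW 10 f 248 < 2 ^ 2480 :=
  packW_lt (fun j hj => h j hj)

theorem pack2_add (f g : ℕ → ℕ → ℕ) : pack2 (fun i j => f i j + g i j) = pack2 f + pack2 g := by
  unfold pack2
  simp only [packW_add]

/-- The entry of a code. -/
def entry (N i j : ℕ) : ℕ := getW 10 (getW 2480 N i) j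

theorem entry_pack2 {f : ℕ → ℕ → ℕ} (h : ∀ i < 248, ∀ j < 248, f i j < 2 ^ 10) {i j : ℕ}
    (hi : i < 248) (hj : j < 248) : entry (pack2 f) i j = f i j := by
  rw [entry, pack2, getW_packW (fun x hx => row_lt (h x hx)) hi, getW_packW (fun x hx => h i hi x hx) hj]

/-- One in every row lane. -/
def unitsW (m : ℕ) : ℕ := packW 2480 (fun _ => m) 248

/-- One constant in every entry. -/
def fill (m : ℕ) : ℕ := pack2 fun _ _ => m

/-- One summand of a product: column `k` of the first times row `k` of the second. -/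
def term (mask A B k : ℕ) : ℕ :=
  Nat.mul (Nat.land (Nat.shiftRight A (Nat.mul 10 k)) mask) (getW 2480 B k)

/-- The unreduced product. -/
noncomputable def mulRaw (mask A B : ℕ) : ℕ → ℕ :=
  fun n => Nat.rec 0 (fun k acc => Nat.add acc (term mask A B k)) n

theorem shiftRight_row {f : ℕ → ℕ} (h : ∀ j < 248, f j < 2 ^ 10) {k : ℕ} (hk : k < 248) :
    Nat.land (Nat.shiftRight (packW 10 f 248) (Nat.mul 10 k)) 1023 = f k := by
  show packW 10 f 248 >>> (10 * k) &&& (2 ^ 10 - 1) = f k
  rw [Nat.and_two_pow_sub_one_eq_mod]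
  exact getW_packW (fun x hx => h x hx) hk

theorem term_pack2 {f g : ℕ → ℕ → ℕ} (hf : ∀ i < 248, ∀ j < 248, f i j < 2 ^ 10)
    (hg : ∀ i < 248, ∀ j < 248, g i j < 2 ^ 10) {k : ℕ} (hk : k < 248) :
    term (unitsW 1023) (pack2 f) (pack2 g) k = pack2 fun i j => f i k * g k j := by
  show Nat.land (Nat.shiftRight (packW 2480 (fun i => packW 10 (f i) 248) 248) (Nat.mul 10 k))
    (packW 2480 (fun _ => 1023) 248) * getW 2480 (pack2 g) k = _
  rw [show Nat.mul 10 k = 10 * k from rfl, shift_land_packW (show 10 * k ≤ 2480 by omega) _ _ _ (fun i hi => row_lt (hf i hi))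
    (fun _ _ => lt_of_lt_of_le (show (1023 : ℕ) < 2 ^ 10 by norm_num)
      (Nat.pow_le_pow_right two_pos (show 10 ≤ 2480 - 10 * k by omega))),
    pack2, getW_packW (fun x hx => row_lt (hg x hx)) hk, ← packW_mul]
  refine packW_congr fun i hi => ?_
  rw [show 10 * k = Nat.mul 10 k from rfl, shiftRight_row (hf i hi) hk, Nat.mul_comm, ← packW_mul]
  exact packW_congr fun j _ => Nat.mul_comm _ _

theorem mulRaw_eq {f g : ℕ → ℕ → ℕ} (hf : ∀ i < 248, ∀ j < 248, f i j < 2 ^ 10)
    (hg : ∀ i < 248, ∀ j < 248, g i j < 2 ^ 10) : ∀ n ≤ 248,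
    mulRaw (unitsW 1023) (pack2 f) (pack2 g) n =
      pack2 fun i j => ∑ k ∈ Finset.range n, f i k * g k j := by
  intro n
  induction n with
  | zero =>
    intro _
    simp only [Finset.range_zero, Finset.sum_empty]
    show (0 : ℕ) = _
    unfold pack2
    simp only [packW_zero]
  | succ n ih =>
    intro hn
    show mulRaw (unitsW 1023) (pack2 f) (pack2 g) n + term (unitsW 1023) (pack2 f) (pack2 g) n = _
    rw [ih (by omega), term_pack2 hf hg (by omega), ← pack2_add]
    exact pack2_congr fun i _ j _ => (Finset.sum_range_succ _ _).symm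

/-- One round of reduction of all entries. -/
def fold1 (m3 m255 N : ℕ) : ℕ := Nat.add (Nat.land N m3) (Nat.land (Nat.shiftRight N 2) m255)

/-- One round on one entry. -/
def fold0 (x : ℕ) : ℕ := x % 4 + x / 4

theorem fold1_pack2 {f : ℕ → ℕ → ℕ} (hf : ∀ i < 248, ∀ j < 248, f i j < 2 ^ 10) :
    fold1 (fill 3) (fill 255) (pack2 f) = pack2 fun i j => fold0 (f i j) := by
  have h1 : Nat.land (pack2 f) (fill 3) = pack2 fun i j => f i j % 4 := by
    rw [fill, pack2, pack2, land_packW _ _ _ (fun i hi => row_lt (hf i hi))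
      (fun i _ => row_lt fun _ _ => by norm_num)]
    refine packW_congr fun i hi => ?_
    rw [land_packW _ _ _ (hf i hi) (fun _ _ => by norm_num)]
    exact packW_congr fun j _ => Nat.and_two_pow_sub_one_eq_mod (f i j) 2
  have hb : packW 10 (fun _ => 255) 248 < 2 ^ (2480 - 2) := by
    have h := packW_lt (w := 10) (f := fun _ => 255) (k := 247) fun _ _ => by norm_num
    rw [packW_succ 10 (fun _ => 255) 247]
    have e : 2 ^ (2480 - 2) = 256 * 2 ^ (10 * 247) := by
      rw [show (256 : ℕ) = 2 ^ 8 by norm_num, ← pow_add]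
    rw [e]
    generalize 2 ^ (10 * 247) = Q at h ⊢
    omega
  have h2 : Nat.land (Nat.shiftRight (pack2 f) 2) (fill 255) = pack2 fun i j => f i j / 4 := by
    rw [fill, pack2, pack2, shift_land_packW (by norm_num) _ _ _ (fun i hi => row_lt (hf i hi))
      (fun _ _ => hb)]
    refine packW_congr fun i hi => ?_
    rw [shift_land_packW (by norm_num) _ _ _ (hf i hi) (fun _ _ => by norm_num)]
    refine packW_congr fun j hj => ?_
    show f i j >>> 2 &&& (2 ^ 8 - 1) = _
    rw [Nat.and_two_pow_sub_one_eq_mod, Nat.shiftRight_eq_div_pow]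
    have := hf i hi j hj
    exact Nat.mod_eq_of_lt (by omega)
  show Nat.land (pack2 f) (fill 3) + Nat.land (Nat.shiftRight (pack2 f) 2) (fill 255) = _
  rw [h1, h2, ← pack2_add]
  rfl

/-- Canonical residues from entries at most `3`. -/
def canon1 (m1 N : ℕ) : ℕ :=
  Nat.sub N (Nat.mul 3 (Nat.land (Nat.shiftRight (Nat.add N m1) 2) m1))

theorem canon1_pack2 {f : ℕ → ℕ → ℕ} (hf : ∀ i < 248, ∀ j < 248, f i j ≤ 3) :
    canon1 (fill 1) (pack2 f) = pack2 fun i j => f i j % 3 := by
  have h2 : Nat.land (Nat.shiftRight (pack2 f + fill 1) 2) (fill 1) = pack2 fun i j => f i j / 3 := by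
    rw [fill, ← pack2_add, pack2, pack2, pack2, shift_land_packW (by norm_num) _ _ _
      (fun i hi => row_lt fun j hj => by have := hf i hi j hj; omega)
      (fun _ _ => lt_of_le_of_lt (le_of_eq rfl) ?_)]
    · refine packW_congr fun i hi => ?_
      rw [shift_land_packW (by norm_num) _ _ _ (fun j hj => by have := hf i hi j hj; omega)
        (fun _ _ => by norm_num)]
      refine packW_congr fun j hj => ?_
      have := hf i hi j hj
      show Nat.land (Nat.shiftRight (f i j + 1) 2) 1 = f i j / 3
      generalize f i j = x at this ⊢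
      interval_cases x <;> decide
    · have h := packW_lt (w := 10) (f := fun _ => 1) (k := 247) fun _ _ => by norm_num
      rw [packW_succ 10 (fun _ => 1) 247]
      have e : 2 ^ (2480 - 2) = 256 * 2 ^ (10 * 247) := by
        rw [show (256 : ℕ) = 2 ^ 8 by norm_num, ← pow_add]
      rw [e]
      generalize 2 ^ (10 * 247) = Q at h ⊢
      omega
  show pack2 f - 3 * Nat.land (Nat.shiftRight (pack2 f + fill 1) 2) (fill 1) = _
  rw [h2]
  have e : pack2 f = pack2 (fun i j => f i j % 3) + 3 * pack2 (fun i j => f i j / 3) := by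
    rw [Nat.mul_comm, show pack2 (fun i j => f i j / 3) * 3 = pack2 (fun i j => f i j / 3 * 3) by
      unfold pack2; simp only [packW_mul], ← pack2_add]
    exact pack2_congr fun i _ j _ => (by omega : f i j = f i j % 3 + f i j / 3 * 3)
  rw [e, Nat.add_sub_cancel]

/-- Reduction of all entries. -/
noncomputable def reduce (m1 m3 m255 N : ℕ) : ℕ :=
  forceNat (fold1 m3 m255 (fold1 m3 m255 (fold1 m3 m255 (fold1 m3 m255 (fold1 m3 m255
    (fold1 m3 m255 (fold1 m3 m255 (fold1 m3 m255 N)))))))) fun M => canon1 m1 M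

theorem fold0_spec : ∀ x, x < 1024 →
    fold0 (fold0 (fold0 (fold0 (fold0 (fold0 (fold0 (fold0 x))))))) ≤ 3 ∧
    fold0 (fold0 (fold0 (fold0 (fold0 (fold0 (fold0 (fold0 x))))))) % 3 = x % 3 := by
  decide +kernel

theorem fold0_lt {x : ℕ} (h : x < 1024) : fold0 x < 2 ^ 10 := by
  unfold fold0; omega

attribute [local irreducible] fill unitsW mulRaw canon1 fold1 pack2

/-- The product of two codes. -/
noncomputable def mul (A B : ℕ) : ℕ :=
  forceNat A fun a => forceNat B fun b =>
    forceNat (mulRaw (unitsW 1023) a b 248) fun N => reduce (fill 1) (fill 3) (fill 255) N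

theorem mul_unfold (A B : ℕ) : mul A B = canon1 (fill 1)
    (fold1 (fill 3) (fill 255) (fold1 (fill 3) (fill 255) (fold1 (fill 3) (fill 255)
    (fold1 (fill 3) (fill 255) (fold1 (fill 3) (fill 255) (fold1 (fill 3) (fill 255)
    (fold1 (fill 3) (fill 255) (fold1 (fill 3) (fill 255)
      (mulRaw (unitsW 1023) A B 248))))))))) := by
  rw [mul, forceNat_eq, forceNat_eq, forceNat_eq, reduce, forceNat_eq]

theorem reduce_pack2 {s : ℕ → ℕ → ℕ} (hs : ∀ i < 248, ∀ j < 248, s i j < 1024) :
    canon1 (fill 1) (fold1 (fill 3) (fill 255) (fold1 (fill 3) (fill 255) (fold1 (fill 3) (fill 255)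
      (fold1 (fill 3) (fill 255) (fold1 (fill 3) (fill 255) (fold1 (fill 3) (fill 255)
      (fold1 (fill 3) (fill 255) (fold1 (fill 3) (fill 255) (pack2 s))))))))) =
    pack2 fun i j => s i j % 3 := by
  rw [fold1_pack2, fold1_pack2, fold1_pack2, fold1_pack2, fold1_pack2, fold1_pack2, fold1_pack2,
    fold1_pack2, canon1_pack2]
  · exact pack2_congr fun i hi j hj => (fold0_spec _ (hs i hi j hj)).2
  · exact fun i hi j hj => (fold0_spec _ (hs i hi j hj)).1
  all_goals
    intro i hi j hj
    repeat' first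
      | exact hs i hi j hj
      | apply fold0_lt

theorem mul_pack2 {f g : ℕ → ℕ → ℕ} (hf : ∀ i < 248, ∀ j < 248, f i j < 3)
    (hg : ∀ i < 248, ∀ j < 248, g i j < 3) :
    mul (pack2 f) (pack2 g) = pack2 fun i j => (∑ k ∈ Finset.range 248, f i k * g k j) % 3 := by
  have hf' : ∀ i < 248, ∀ j < 248, f i j < 2 ^ 10 := fun i hi j hj => by have := hf i hi j hj; omega
  have hg' : ∀ i < 248, ∀ j < 248, g i j < 2 ^ 10 := fun i hi j hj => by have := hg i hi j hj; omega
  rw [mul_unfold, mulRaw_eq hf' hg' 248 le_rfl]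
  have hs : ∀ i < 248, ∀ j < 248, (∑ k ∈ Finset.range 248, f i k * g k j) < 1024 := by
    intro i hi j hj
    refine lt_of_le_of_lt (Finset.sum_le_card_nsmul _ _ 4 fun k hk => ?_) (by simp)
    rw [Finset.mem_range] at hk
    exact Nat.mul_le_mul (by have := hf i hi k hk; omega : f i k ≤ 2)
      (by have := hg k hk j hj; omega : g k j ≤ 2)
  exact reduce_pack2 hs

/-- The matrix of a code. -/
noncomputable def val (N : ℕ) : Mat := Matrix.of fun i j => ((entry N i.1 j.1 : ℕ) : ZMod 3)

/-- A code in normal form. -/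
def OK (N : ℕ) : Prop := ∃ f : ℕ → ℕ → ℕ, (∀ i < 248, ∀ j < 248, f i j < 3) ∧ N = pack2 f

theorem mul_spec {A B : ℕ} (hA : OK A) (hB : OK B) : OK (mul A B) ∧ val (mul A B) = val A * val B := by
  obtain ⟨f, hf, rfl⟩ := hA
  obtain ⟨g, hg, rfl⟩ := hB
  rw [mul_pack2 hf hg]
  refine ⟨⟨_, fun i _ j _ => Nat.mod_lt _ (by norm_num), rfl⟩, ?_⟩
  ext i j
  have hb : ∀ {f : ℕ → ℕ → ℕ}, (∀ i < 248, ∀ j < 248, f i j < 3) → ∀ {i j : ℕ}, i < 248 → j < 248 →
      entry (pack2 f) i j = f i j := fun h _ _ hi hj =>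
    entry_pack2 (fun a ha b hb => (h a ha b hb).trans (by norm_num)) hi hj
  simp only [Matrix.mul_apply, val, Matrix.of_apply]
  rw [hb (fun a _ b _ => Nat.mod_lt _ (by norm_num)) i.2 j.2, ZMod.natCast_mod, Finset.sum_range,
    Nat.cast_sum]
  exact Finset.sum_congr rfl fun k _ => by rw [hb hf i.2 k.2, hb hg k.2 j.2, Nat.cast_mul]

/-- A checked code. -/
noncomputable def okB (N : ℕ) : Bool :=
  Nat.beq N (pack2 (entry N)) &&
    (List.range 248).all fun i => forceNat (getW 2480 N i) fun r =>
      (List.range 248).all fun j => Nat.blt (getW 10 r j) 3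

theorem ok_of_okB {N : ℕ} (h : okB N = true) : OK N := by
  simp only [okB, Bool.and_eq_true, List.all_eq_true, List.mem_range, Nat.beq_eq, Nat.blt_eq,
    forceNat_eq] at h
  exact ⟨entry N, fun i hi j hj => h.2 i hi j hj, h.1⟩

/-- The code of the identity. -/
noncomputable def one : ℕ :=
  packW 2480 (fun i => Nat.shiftLeft 1 (Nat.mul 10 i)) 248

theorem packW_single (w i : ℕ) : ∀ k,
    packW w (fun j => if j = i then 1 else 0) k = if i < k then 2 ^ (w * i) else 0 := by
  intro k
  induction k with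
  | zero => rfl
  | succ k ih =>
    rw [packW_succ, ih]
    by_cases h : k = i
    · subst h; simp
    · by_cases h2 : i < k
      · simp [h, h2, show i < k + 1 by omega]
      · simp [h, h2, show ¬ i < k + 1 by omega]

theorem one_spec : OK one ∧ val one = 1 := by
  have e : one = pack2 fun i j => if j = i then 1 else 0 := by
    unfold pack2
    refine packW_congr fun i hi => ?_
    rw [packW_single, if_pos hi]
    exact Nat.one_shiftLeft _
  refine ⟨⟨_, fun i _ j _ => by split_ifs <;> norm_num, e⟩, ?_⟩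
  ext i j
  rw [val, Matrix.of_apply, e, entry_pack2 (fun a _ b _ => by split_ifs <;> norm_num) i.2 j.2,
    Matrix.one_apply]
  by_cases h : i = j
  · subst h; simp
  · rw [if_neg h, if_neg (fun h' => h (Fin.ext h'.symm)), Nat.cast_zero]

/-- The code of a product of a word in a table of codes. -/
noncomputable def wordC (dat : ℕ → ℕ) : List ℕ → ℕ → ℕ :=
  fun l => List.rec (fun acc => acc) (fun g _ ih acc => forceNat (mul acc (dat g)) ih) l

theorem wordC_spec {dat : ℕ → ℕ} (hd : ∀ g, OK (dat g)) : ∀ (l : List ℕ) (acc : ℕ), OK acc →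
    OK (wordC dat l acc) ∧ val (wordC dat l acc) = val acc * (l.map fun g => val (dat g)).prod := by
  intro l
  induction l with
  | nil => intro acc h; exact ⟨h, (Matrix.mul_one _).symm⟩
  | cons g l ih =>
    intro acc h
    have h1 := mul_spec h (hd g)
    show OK (forceNat (mul acc (dat g)) fun d => wordC dat l d) ∧ _
    rw [forceNat_eq]
    obtain ⟨h2, h3⟩ := ih _ h1.1
    refine ⟨h2, ?_⟩
    show val (forceNat (mul acc (dat g)) fun d => wordC dat l d) = _
    rw [forceNat_eq, h3, h1.2, List.map_cons, List.prod_cons, mul_assoc]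

/-- The product of a word is the identity. -/
noncomputable def isOne (dat : ℕ → ℕ) : List ℕ → Bool
  | [] => true
  | g :: l => Nat.beq (wordC dat l (dat g)) one

theorem prod_eq_one {dat : ℕ → ℕ} (hd : ∀ g, OK (dat g)) {l : List ℕ} (h : isOne dat l = true) :
    (l.map fun g => val (dat g)).prod = 1 := by
  rcases l with _ | ⟨g, l⟩
  · rfl
  · rw [List.map_cons, List.prod_cons, ← (wordC_spec hd l _ (hd g)).2, Nat.eq_of_beq_eq_true h,
      one_spec.2]

end Cfsg.Agent.Lib.ThRep
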